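import Groth.Agent.AgDeg.Propagate
import Groth.Agent.AgDeg.Stage
import Groth.Agent.ClosedRep.Over

/-!
A dual of an abelian scheme over a locally noetherian base is locally of finite type and separated.
-/

set_option autoImplicit false
set_option backward.isDefEq.respectTransparency false
set_option backward.isDefEq.respectTransparency.types false
set_option linter.style.haveILetI false
set_option linter.unusedSectionVars false
set_option maxHeartbeats 4000000
set_option synthInstance.maxHeartbeats 200000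

universe u

open CategoryTheory CategoryTheory.Limits MonoidalCategory CartesianMonoidalCategory MonObj GrpObj AlgebraicGeometry
open TopologicalSpace PicF
open Groth.Agent.W7Cube (pull pull_pull pull_cls)
open Groth.Agent.AgBC (dn dnHom)

noncomputable section

namespace Groth.Agent.AgDeg

attribute [local instance] W7Cube.law

variable {S : Scheme.{u}} [IsLocallyNoetherian S] {A At : Over S} [GrpObj A] [IsCommMonObj A] [GrpObj At]
  [IsCommMonObj At] [IsProper A.hom] [Smooth A.hom] [GeometricallyConnected A.hom] {φ : AgPol.DualMap A At}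
  (hA : AbDual.IsDualAV Scheme.fppfPrecoverage A At φ)

/-- a finite type algebra with a retraction onto a subalgebra is that subalgebra -/
theorem subalgebra_eq_top_of_retraction {R B : Type u} [CommRing R] [CommRing B] [Algebra R B] (B₂ : Subalgebra R B)
    (ψ : Spec (CommRingCat.of ↥B₂) ⟶ Spec (CommRingCat.of B))
    (h : Spec.map (CommRingCat.ofHom B₂.val.toRingHom) ≫ ψ = 𝟙 _) : B₂ = ⊤ := by
  obtain ⟨φ', rfl⟩ := Spec.map_surjective ψ
  rw [← Spec.map_comp, ← Spec.map_id] at h
  have h' := Spec.map_injective h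
  refine eq_top_iff.2 fun b _ => ?_
  have e : B₂.val (φ'.hom b) = b := congrArg (fun m : CommRingCat.of B ⟶ CommRingCat.of B => m.hom b) h'
  exact e ▸ (φ'.hom b).2

include hA in
/-- **the dual is locally of finite type** -/
theorem locallyOfFiniteType_dual : LocallyOfFiniteType At.hom := by
  rw [HasRingHomProperty.iff_appLE (P := @LocallyOfFiniteType)]
  intro U V e
  let R : Type u := Γ(S, U.1)
  let B : Type u := Γ(At.left, V.1)
  letI : Algebra R B := (At.hom.appLE U.1 V.1 e).hom.toAlgebra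
  haveI : IsNoetherianRing R := IsLocallyNoetherian.component_noetherian U
  let jU : Spec (CommRingCat.of R) ⟶ S := U.2.fromSpec
  let T : Over S := dn jU (sR R B)
  let g : T ⟶ At := Over.homMk V.2.fromSpec (IsAffineOpen.SpecMap_appLE_fromSpec At.hom U.2 V.2 e).symm
  obtain ⟨c, hc0, hcr, hcg⟩ := AVPoincare.exists_rig_picZero hA T g
  let AR := Red.bc jU A
  haveI : IsProper AR.hom := inferInstanceAs (IsProper (pullback.snd A.hom jU))
  obtain ⟨B₁, hB₁, c0, hc0'⟩ := exists_stage_class (k := R) AR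
    (pull (AgPol.bcXTIso jU A (sR R B)).hom c)
  let T₁ : Over S := dn jU (sR R ↥B₁)
  let w : T ⟶ T₁ := dnHom jU (sMap B₁.val)
  let c1 : PicLoc.PicSet (XT A.hom T₁) := pull (AgPol.bcXTIso jU A (sR R ↥B₁)).inv c0
  have hc1 : pull (XTmap A.hom w) c1 = c := by
    change pull _ (pull _ c0) = c
    rw [pull_pull, AgBC.xtMap_inv, ← pull_pull, AgSymm.XTmap_eq]
    refine (congrArg (pull _) hc0').trans ?_
    refine (pull_pull _ _ _).trans ?_
    rw [Iso.inv_hom_id]
    exact PicGrp.pullHom_id_apply _ _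
  let σ₀ : S ⟶ A.left := η[A].left
  let sec : ∀ U : Over S, U.left ⟶ XT A.hom U := fun U => secT A.hom η[A].left (Over.w η[A]) U
  let c2 : PicLoc.PicSet (XT A.hom T₁) := c1 * (pull (XTproj A.hom T₁) (pull (sec T₁) c1))⁻¹
  have hc2r : pull (sec T₁) c2 = 1 := by
    rw [map_mul, map_inv, pull_pull (sec T₁) (XTproj A.hom T₁), mul_inv_eq_one]
    change _ = pull (secT A.hom η[A].left (Over.w η[A]) T₁ ≫ pullback.snd A.hom T₁.hom) _
    rw [S12403.secT_proj]
    exact (PicGrp.pullHom_id_apply _ _).symm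
  have hc2 : pull (XTmap A.hom w) c2 = c := by
    rw [map_mul, map_inv, hc1, pull_pull, pull_pull]
    have e1 : (XTmap A.hom w ≫ XTproj A.hom T₁) ≫ sec T₁ = XTproj A.hom T ≫ w.left ≫ sec T₁ := by
      simp [XTmap, XTproj]
    have e2 : w.left ≫ sec T₁ = sec T ≫ XTmap A.hom w :=
      (S12403.secT_nat A.hom η[A].left (Over.w η[A]) w).symm
    rw [e1, e2, ← pull_pull, ← pull_pull, hc1, hcr, map_one, inv_one, _root_.mul_one]
  haveI : Algebra.FiniteType R ↥B₁ := (Subalgebra.fg_iff_finiteType B₁).1 hB₁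
  haveI : IsNoetherianRing ↥B₁ := Algebra.FiniteType.isNoetherianRing R ↥B₁
  haveI : IsLocallyNoetherian T₁.left := inferInstanceAs (IsLocallyNoetherian (Spec (CommRingCat.of ↥B₁)))
  haveI : NoetherianSpace T₁.left := inferInstanceAs (NoetherianSpace (PrimeSpectrum ↥B₁))
  have hdense : DenseRange w.left := by
    change DenseRange (PrimeSpectrum.comap B₁.val.toRingHom)
    rw [PrimeSpectrum.denseRange_comap_iff_ker_le_nilRadical, (RingHom.injective_iff_ker_eq_bot _).1 (show Function.Injective B₁.val.toRingHom from Subtype.val_injective)]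
    exact bot_le
  have hz2 : AbDual.IsPicZeroCl A.hom T₁ c2.1 := picZero_of_dominant hA w hdense c2 hc2r (by rw [hc2]; exact hc0)
  let g₁ : T₁ ⟶ At := φ T₁ c2.1
  have hg : g = w ≫ g₁ := by
    rw [← hA.relPic.natural T₁ T w c2.1 hz2, ← hcg]
    exact congrArg (φ T) (congrArg Subtype.val hc2).symm
  -- a finite extension landing in the affine open
  let W : (Spec (CommRingCat.of ↥B₁)).Opens := g₁.left ⁻¹ᵁ V.1
  obtain ⟨I, hI⟩ := (PrimeSpectrum.isClosed_iff_zeroLocus_ideal _).1 W.2.isClosed_compl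
  have hItop : I.map B₁.val.toRingHom = ⊤ := by
    rw [← PrimeSpectrum.zeroLocus_empty_iff_eq_top, Set.eq_empty_iff_forall_notMem]
    intro q hq
    have hqW : w.left q ∈ W := by
      change g₁.left (w.left q) ∈ V.1
      rw [← Scheme.Hom.comp_apply, ← Over.comp_left, ← hg]
      change V.2.fromSpec q ∈ (V.1 : Set At.left)
      rw [← V.2.range_fromSpec]
      exact ⟨q, rfl⟩
    have hq' : w.left q ∈ W.carrierᶜ := (Set.ext_iff.1 hI _).2 (Ideal.map_le_iff_le_comap.1 hq)
    exact hq' hqW
  have h1 : (1 : B) ∈ Submodule.span B (B₁.val.toRingHom '' (I : Set ↥B₁)) :=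
    hItop.ge Submodule.mem_top
  obtain ⟨s, hs, hs1⟩ := Submodule.mem_span_finite_of_mem_span h1
  obtain ⟨f, -, hf⟩ := Submodule.mem_span_finset.1 hs1
  classical
  let B₂ : Subalgebra R B := B₁ ⊔ Algebra.adjoin R ↑(s.image f)
  have hB₂ : B₂.FG := hB₁.sup (Subalgebra.fg_adjoin_finset _)
  have hle : B₁ ≤ B₂ := le_sup_left
  let T₂ : Over S := dn jU (sR R ↥B₂)
  let w₂ : T₂ ⟶ T₁ := dnHom jU (sMap (Subalgebra.inclusion hle))
  have hI₂ : I.map (Subalgebra.inclusion hle).toRingHom = ⊤ := by
    rw [Ideal.eq_top_iff_one]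
    have e : (1 : ↥B₂) = ∑ a ∈ s.attach, (⟨f a.1, (le_sup_right : Algebra.adjoin R ↑(s.image f) ≤ B₂)
        (Algebra.subset_adjoin (Finset.mem_coe.2 (Finset.mem_image_of_mem f a.2)))⟩ : ↥B₂) *
        (⟨a.1, by obtain ⟨b, -, hb⟩ := hs a.2; exact hb ▸ hle b.2⟩ : ↥B₂) := by
      refine Subtype.ext ?_
      simp only [AddSubmonoidClass.coe_finsetSum, MulMemClass.coe_mul, OneMemClass.coe_one]
      rw [Finset.sum_attach s (fun a => f a * a), ← hf]
      rfl
    rw [e]
    refine sum_mem fun a _ => Ideal.mul_mem_left _ _ ?_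
    obtain ⟨b, hb, hba⟩ := hs a.2
    exact (Subtype.ext hba : (Subalgebra.inclusion hle).toRingHom b = ⟨a.1, hba ▸ hle b.2⟩) ▸ Ideal.mem_map_of_mem _ hb
  have hrange : Set.range (w₂ ≫ g₁).left ⊆ Set.range V.2.fromSpec := by
    rintro _ ⟨q, rfl⟩
    rw [V.2.range_fromSpec]
    by_contra hq
    have hq' := (Set.ext_iff.1 hI (w₂.left q)).1 hq
    have h2 : I.map (Subalgebra.inclusion hle).toRingHom ≤ (q : PrimeSpectrum ↥B₂).asIdeal :=
      Ideal.map_le_iff_le_comap.2 hq'
    rw [hI₂] at h2
    exact (q : PrimeSpectrum ↥B₂).isPrime.ne_top (eq_top_iff.2 h2)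
  let ψ : Spec (CommRingCat.of ↥B₂) ⟶ Spec (CommRingCat.of B) := IsOpenImmersion.lift V.2.fromSpec (w₂ ≫ g₁).left hrange
  have hψ : Spec.map (CommRingCat.ofHom B₂.val.toRingHom) ≫ ψ = 𝟙 _ := by
    rw [← cancel_mono V.2.fromSpec, Category.assoc, IsOpenImmersion.lift_fac, Category.id_comp, Over.comp_left]
    refine Eq.trans ?_ (congrArg (fun m : T ⟶ At => m.left) hg).symm
    rw [Over.comp_left, ← Category.assoc]
    congr 1
    exact (Spec.map_comp _ _).symm
  rw [RingHom.FiniteType]
  exact ⟨(subalgebra_eq_top_of_retraction B₂ ψ hψ) ▸ hB₂⟩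

include hA in
/-- **the dual is separated** -/
theorem isSeparated_dual : IsSeparated At.hom := by
  haveI := locallyOfFiniteType_dual hA
  haveI : IsLocallyNoetherian At.left := LocallyOfFiniteType.isLocallyNoetherian At.hom
  obtain ⟨ξ, -, hξ⟩ := AVPoincare.exists_isPoincareCl hA
  obtain ⟨P, -⟩ := AgSymm.exists_poincare hξ
  haveI : GeometricallyReduced A.hom := Rigid.geometricallyReduced_of_smooth _
  obtain ⟨Z, z, hzc, hz⟩ := GraphLocus.exists_trivLocus (A := A) (U₀ := At) (P.cls (𝟙 At))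
    (by rw [AgSymm.Poincare.val_cls, Category.id_comp, P.val_one_left])
  haveI := hzc
  have key : ∀ (U : Over S) [IsLocallyNoetherian U.left] (u : U ⟶ At), (∃ y, y ≫ z = u) ↔ u = 1 := fun U _ u => by
    rw [hz U u]
    have e : pull (A ◁ u).left (P.cls (𝟙 At)) = P.cls u := by
      rw [← AgSymm.XTmap_eq, P.cls_eq, P.cls_eq]
      refine (pull_pull _ _ _).trans ?_
      rw [S12404.XTmap_comp, Category.comp_id]
      rfl
    rw [e]
    constructor
    · intro h
      rw [← P.phi_cls hA u, h]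
      exact AbPrim.phi_one hA
    · rintro rfl
      rw [AgSymm.Poincare.cls, MonObj.comp_one, P.val_one_right hA]
  haveI : IsLocallyNoetherian Z.left := LocallyOfFiniteType.isLocallyNoetherian z.left
  haveI : IsLocallyNoetherian (𝟙_ (Over S)).left := ‹IsLocallyNoetherian S›
  have hz1 : z = 1 := (key Z z).1 ⟨𝟙 Z, Category.id_comp z⟩
  obtain ⟨y, hy⟩ := (key (𝟙_ (Over S)) η[At]).2
    (by rw [Hom.one_def, toUnit_unique (toUnit _) (𝟙 _), Category.id_comp])
  haveI : Mono z.left := inferInstance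
  haveI : IsIso y.left := by
    refine ⟨(toUnit Z).left, ?_, ?_⟩
    · rw [← Over.comp_left, toUnit_unique (y ≫ toUnit Z) (𝟙 _), Over.id_left]
    · refine (cancel_mono z.left).1 ?_
      rw [Category.id_comp, Category.assoc, ← Over.comp_left, hy, ← Over.comp_left, ← Hom.one_def, hz1]
  haveI : IsClosedImmersion η[At].left := by
    rw [← hy, Over.comp_left]
    infer_instance
  exact ClosedRep.isSeparated_of_one

end Groth.Agent.AgDeg
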