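import Groth.Agent.AgPos.LambdaQ
import Groth.Agent.AVEuler.Polar
import Groth.Agent.AVEuler.Smooth
import Groth.Agent.Zarhin.Dual
import Groth.Agent.GraphLocus.Lam
import Groth.Agent.GrpField.AbelianField
import Mathlib.AlgebraicGeometry.Morphisms.FlatRank

/-!
Over an algebraically closed field the homomorphism of an ample class is finite flat of rank the square of the number
of sections.
-/

set_option autoImplicit false
set_option backward.isDefEq.respectTransparency false
set_option backward.isDefEq.respectTransparency.types false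
set_option linter.style.haveILetI false
set_option linter.unusedSectionVars false
set_option synthInstance.maxHeartbeats 200000
set_option maxHeartbeats 2000000

universe u

open CategoryTheory CategoryTheory.Limits MonoidalCategory CartesianMonoidalCategory MonObj GrpObj AlgebraicGeometry
open Groth.Agent.W7Cube (pull pull_pull pc pull_pc pull_cls)

noncomputable section

namespace Groth.Agent.AgDeg

attribute [local instance] W7Cube.law AVDeg.overInst

variable {k : Type u} [Field k] [IsAlgClosed k] {B Bt : Over (Spec (CommRingCat.of k))}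
  [GrpObj B] [IsProper B.hom] [GeometricallyIntegral B.hom] [IsCommMonObj B] [GrpObj Bt] [IsCommMonObj Bt]
  {φ : AgPol.DualMap B Bt}

/-- finite flat of rank `r ^ 2` over an algebraically closed field -/
theorem finite_flat_rank (hA : AbDual.IsDualAV Scheme.fppfPrecoverage B Bt φ) {L : B.left.Modules}
    (hL : CohB1.IsAmple L) {r : ℕ} (hr : CurveRR.h k L 0 = r) {l : B ⟶ Bt}
    (hl : φ B (GraphLocus.lamCls (PicGrp.cls L hL.1)).1 = l) :
    IsFinite l.left ∧ Flat l.left ∧ ∀ y, l.left.finrank y = r ^ 2 := by
  haveI : Smooth B.hom := AVEuler.smooth_av B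
  haveI : GeometricallyConnected B.hom := AVEuler.connected_av B
  obtain ⟨g, hg⟩ : ∃ g : ℕ, topologicalKrullDim B.left = (g : WithBot ℕ∞) := by
    haveI : Nonempty B.left := ⟨η[B].left (IsLocalRing.closedPoint k)⟩
    exact AVDeg.exists_dim B
  obtain ⟨hp, hi, -, Q, -, -⟩ := Zarhin.exists_weak B Bt hg hA
  haveI := hp
  haveI := hi
  haveI : Smooth Bt.hom := AVEuler.smooth_av Bt
  haveI : GeometricallyConnected Bt.hom := AVEuler.connected_av Bt
  haveI : Subsingleton (Spec (CommRingCat.of k)) := inferInstanceAs (Subsingleton (PrimeSpectrum k))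
  haveI : IsIntegral B.left := GeometricallyIntegral.isIntegral_of_subsingleton B.hom
  haveI : IsIntegral Bt.left := GeometricallyIntegral.isIntegral_of_subsingleton Bt.hom
  let c := PicGrp.cls L hL.1
  have e1 : AVMukai.lam c (fst B B) (snd B B) = GraphLocus.lamCls c := by
    rw [AVMukai.lam, GraphLocus.lamCls, ← MonObj.mul_eq_mul B, pc, pc, pc, _root_.mul_inv_rev, _root_.mul_assoc,
      mul_comm (pull (snd B B).left c)⁻¹]
  have e2 : AVAmple.mum c (𝟙 B) = GraphLocus.lamCls c := by
    rw [AVAmple.mum, GraphLocus.lamCls, Category.comp_id, ← MonObj.mul_eq_mul B]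
    rfl
  have hl' : AgPos.lamOf φ c = l := by
    rw [AgPos.lamOf, e2]
    exact hl
  haveI : IsMonHom l := hl' ▸ AgPos.isMonHom_lamOf hA c
  haveI : IsFinite l.left := hl' ▸ AgPos.isFinite_lamOf hA hL
  haveI : Surjective l.left := hl' ▸ AgPos.surjective_lamOf hA hL
  haveI : Flat l.left := GrpField.flat_of_surjective l
  refine ⟨inferInstance, inferInstance, ?_⟩
  haveI : IsLocallyNoetherian Bt.left := LocallyOfFiniteType.isLocallyNoetherian Bt.hom
  haveI : LocallyOfFinitePresentation l.left := inferInstance
  haveI : ConnectedSpace Bt.left := inferInstance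
  let o : Bt.left := η[Bt].left (IsLocalRing.closedPoint k)
  have hconst : ∀ y, l.left.finrank y = l.left.finrank o := fun y =>
    l.left.isLocallyConstant_finrank.apply_eq_of_preconnectedSpace y o
  have hc : φ B (AVMukai.lam c (fst B B) (snd B B)).1 = l := by rw [e1]; exact hl
  haveI : IsFinite (φ B (AVMukai.lam c (fst B B) (snd B B)).1).left := hc ▸ ‹IsFinite l.left›
  haveI : Flat (φ B (AVMukai.lam c (fst B B) (snd B B)).1).left := hc ▸ ‹Flat l.left›
  have hsq := AVEuler.χc_sq hA Q c (l.left.finrank o) fun y => by rw [hc]; exact hconst y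
  have hχ : AVEuler.χc c = (r : ℤ) := by
    rw [AVEuler.χc_cls]
    haveI : IsProper (B.left ↘ Spec (CommRingCat.of k)) := inferInstanceAs (IsProper B.hom)
    haveI : Nonempty B.left := ⟨η[B].left (IsLocalRing.closedPoint k)⟩
    have h := CurveRR.euler_eq_sum (k := k) L 1 fun i hi => AVVanish.hh_pos (A := B) hL i hi
    simp only [Finset.sum_range_one, pow_zero, _root_.one_mul] at h
    rw [h]
    exact congrArg Nat.cast hr
  intro y
  rw [hconst y]
  rw [hχ] at hsq
  exact_mod_cast hsq.symm

end Groth.Agent.AgDeg
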