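import Groth.Agent.LamRigid.Main
import Groth.Agent.AgVanish.Invariant
import Groth.Agent.AVAmple.Translate

/-!
The homomorphism of a class over a connected base is trivial when it is on one geometric fibre, and triviality of the
homomorphism means algebraic triviality on the geometric fibres.
-/

set_option autoImplicit false
set_option backward.isDefEq.respectTransparency false
set_option backward.isDefEq.respectTransparency.types false
set_option linter.style.haveILetI false
set_option linter.unusedSectionVars false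
set_option maxHeartbeats 2000000
set_option synthInstance.maxHeartbeats 200000

universe u

open CategoryTheory MonoidalCategory CartesianMonoidalCategory MonObj GrpObj AlgebraicGeometry
open Groth.Agent.W7Cube (pull pull_pull pull_cls pc pull_pc pc_id pc_const)
open Groth.Agent.AgBC (dn toDn toDn_left toDn_one prD)
open Groth.Agent.AgSymm (Poincare)

noncomputable section

namespace Groth.Agent.AgDeg

attribute [local instance] W7Cube.law

section Field

variable {k : Type u} [Field k] [IsAlgClosed k] {A : Over (Spec (CommRingCat.of k))} [GrpObj A] [IsProper A.hom]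
  [GeometricallyIntegral A.hom]

/-- the Mumford class is trivial exactly for translation invariant classes -/
theorem lamCls_eq_one_iff (c : PicLoc.PicSet A.left) :
    GraphLocus.lamCls c = 1 ↔ ∀ a : 𝟙_ (Over (Spec (CommRingCat.of k))) ⟶ A, pc c (𝟙 A * (toUnit A ≫ a)) = c := by
  haveI : Subsingleton (Spec (CommRingCat.of k)) := inferInstanceAs (Subsingleton (PrimeSpectrum k))
  haveI : IsIntegral A.left := GeometricallyIntegral.isIntegral_of_subsingleton A.hom
  have e : GraphLocus.lamCls c = pc c (fst A A * snd A A) * (pc c (fst A A) * pc c (snd A A))⁻¹ := by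
    rw [GraphLocus.lamCls, show μ[A] = fst A A * snd A A from MonObj.mul_eq_mul A]
    rfl
  rw [e, mul_inv_eq_one]
  constructor
  · intro h a
    have h' := congrArg (pull (lift (𝟙 A) (toUnit A ≫ a)).left) h
    rw [map_mul, pull_pc, pull_pc, pull_pc, MonObj.comp_mul, lift_fst, lift_snd, pc_const, _root_.mul_one,
      pc_id] at h'
    exact h'
  · intro h
    have := AVAmple.additive_of_invariant c (𝟙 A) fun y hy => by
      obtain ⟨b, hb⟩ := AVAmple.exists_point (A := A) hy
      exact ⟨b, hb, by rw [Category.comp_id]; exact h b⟩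
    rwa [Category.comp_id] at this

end Field

variable {S : Scheme.{u}} {A At : Over S} [GrpObj A] [IsCommMonObj A] [GrpObj At] [IsCommMonObj At]
  [IsProper A.hom] [Smooth A.hom] [GeometricallyConnected A.hom] {φ : AgPol.DualMap A At}
  (hA : AbDual.IsDualAV Scheme.fppfPrecoverage A At φ) {c : PicLoc.PicSet A.left} (hc : pull η[A].left c = 1)

include hc hA in
/-- rigidity of the homomorphism of a class, from a geometric fibre -/
theorem lamHom_eq_one_of_geometric [IsLocallyNoetherian S] [ConnectedSpace S] {Ω : Type u} [Field Ω]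
    (τ : Spec (CommRingCat.of Ω) ⟶ S) (h : (Over.pullback τ).map (GraphLocus.lamHom φ c) = 1) :
    GraphLocus.lamHom φ c = 1 := by
  obtain ⟨ξ, -, hξ⟩ := AVPoincare.exists_isPoincareCl hA
  obtain ⟨P, -⟩ := AgSymm.exists_poincare hξ
  let l := GraphLocus.lamHom φ c
  haveI : IsMonHom l := GraphLocus.isMonHom_lamHom hc P hA
  haveI : IsLocallyNoetherian A.left := LocallyOfFiniteType.isLocallyNoetherian A.hom
  haveI : GeometricallyReduced A.hom := Rigid.geometricallyReduced_of_smooth _
  obtain ⟨Z, z, hzc, hz⟩ := GraphLocus.exists_trivLocus (A := A) (U₀ := A) (GraphLocus.lamCls c)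
    (GraphLocus.val_lamCls_one hc _)
  haveI := hzc
  have hzu : ∀ (U : Over S) [IsLocallyNoetherian U.left] (u : U ⟶ A), (∃ y, y ≫ z = u) ↔ u ≫ l = 1 := fun U _ u =>
    (hz U u).trans (GraphLocus.comp_lamHom_eq_one_iff hc P hA u).symm
  have hone : ∀ (U : Over S), ((1 : U ⟶ At)).left = U.hom ≫ η[At].left := fun U => by
    rw [Hom.one_def, Over.comp_left, Over.toUnit_left]
  let W : Set S := {t | ∀ a : A.left, A.hom a = t → a ∈ Set.range z.left}
  have hWc : IsClosed W := by
    have e : Wᶜ = A.hom '' (Set.range z.left)ᶜ := by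
      ext t
      simp only [W, Set.mem_compl_iff, Set.mem_ofPred_eq, not_forall, Set.mem_image]
      exact ⟨fun ⟨a, ha, ha'⟩ => ⟨a, ha', ha⟩, fun ⟨a, ha', ha⟩ => ⟨a, ha, ha'⟩⟩
    exact isOpen_compl_iff.1 (e ▸ A.hom.isOpenMap _ z.left.isClosedEmbedding.isClosed_range.isOpen_compl)
  haveI : IsLocallyNoetherian Z.left := LocallyOfFiniteType.isLocallyNoetherian z.left
  have hzl : z ≫ l = 1 := (hzu Z z).1 ⟨𝟙 Z, Category.id_comp z⟩
  have hloc : ∀ t ∈ W, ∃ U : S.Opens, t ∈ U ∧ (A.hom ⁻¹ᵁ U).ι ≫ l.left = (A.hom ⁻¹ᵁ U).ι ≫ (1 : A ⟶ At).left := by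
    intro t ht
    obtain ⟨U, htU, hU⟩ := Rigid.exists_eq_section_of_collapsed A.hom (Rigid.goodFibres_of_geometrically A.hom)
      η[A].left (Over.w η[A]) l.left t (by
      rintro _ ⟨a, ha, rfl⟩ _ ⟨b, hb, rfl⟩
      obtain ⟨a', rfl⟩ := ht a ha
      obtain ⟨b', rfl⟩ := ht b hb
      have e : z.left ≫ l.left = Z.hom ≫ η[At].left := by rw [← Over.comp_left, hzl, hone]
      have key : ∀ x, l.left (z.left x) = η[At].left (A.hom (z.left x)) := fun x => by
        rw [← Scheme.Hom.comp_apply, e, Scheme.Hom.comp_apply, ← Over.w z]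
        rfl
      rw [key, key, show A.hom (z.left a') = t from ha, show A.hom (z.left b') = t from hb])
    exact ⟨U, htU, by rw [hU, ← Over.comp_left, IsMonHom.one_hom, hone]⟩
  have hWo : IsOpen W := isOpen_iff_forall_mem_open.2 fun t ht => by
    obtain ⟨U, htU, hU⟩ := hloc t ht
    refine ⟨U, fun t' ht' a ha => ?_, U.2, htU⟩
    let O := A.hom ⁻¹ᵁ U
    let V : Over S := Over.mk (O.ι ≫ A.hom)
    let v : V ⟶ A := Over.homMk O.ι
    haveI : IsLocallyNoetherian V.left := inferInstanceAs (IsLocallyNoetherian O.toScheme)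
    obtain ⟨y, hy⟩ := (hzu V v).2 (Over.OverMorphism.ext (by
      rw [Over.comp_left, hone]
      exact hU.trans (by rw [hone, ← Category.assoc]; rfl)))
    exact ⟨y.left ⟨a, show A.hom a ∈ U from ha ▸ ht'⟩, congrArg (fun f : V ⟶ A => f.left ⟨a, _⟩) hy⟩
  let p : Spec (CommRingCat.of Ω) := IsLocalRing.closedPoint Ω
  have hs : τ p ∈ W := by
    have h1 : prD τ A ≫ l = 1 := by
      refine Eq.trans (Over.OverMorphism.ext ?_) (toDn_one (P := At) τ (U := Red.bc τ A))
      rw [← h, toDn_left, Over.comp_left]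
      simp [prD, Over.pullback, l]
    haveI : IsLocallyNoetherian (dn τ (Red.bc τ A)).left :=
      LocallyOfFiniteType.isLocallyNoetherian (Limits.pullback.snd A.hom τ)
    obtain ⟨y, hy⟩ := (hzu _ _).2 h1
    intro a ha
    obtain ⟨a', ha', -⟩ := Scheme.Pullback.exists_preimage_pullback (f := A.hom) (g := τ) a p ha
    exact ⟨y.left a', ((congrArg (fun f : dn τ (Red.bc τ A) ⟶ A => f.left a') hy).trans rfl).trans ha'⟩
  have hW : ∀ t, t ∈ W := by
    rcases isClopen_iff.1 ⟨hWc, hWo⟩ with e | e
    · exact absurd hs (by rw [e]; exact Set.notMem_empty _)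
    · exact fun t => e ▸ Set.mem_univ t
  refine Over.OverMorphism.ext (Rigid.hom_ext_of_forall _ _ fun a => ?_)
  obtain ⟨U, htU, hU⟩ := hloc _ (hW (A.hom a))
  exact ⟨A.hom ⁻¹ᵁ U, htU, hU⟩

variable {Ω : Type u} [Field Ω] [IsAlgClosed Ω] (τ : Spec (CommRingCat.of Ω) ⟶ S)
  {L : A.left.Modules} (hL : PicF.IsInvertible L)

include hA in
/-- algebraically trivial on a geometric fibre: trivial homomorphism there -/
theorem map_lamHom_eq_one_of_algEquiv (hc : pull η[A].left (PicGrp.cls L hL) = 1)
    (h : @Pic13.IsAlgEquivZero Ω _ (Red.bc τ A).left ⟨(Red.bc τ A).hom⟩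
      ((Scheme.Modules.pullback (Limits.pullback.fst A.hom τ)).obj L)) :
    (Over.pullback τ).map (GraphLocus.lamHom φ (PicGrp.cls L hL)) = 1 := by
  let B := Red.bc τ A
  letI : B.left.Over (Spec (CommRingCat.of Ω)) := ⟨B.hom⟩
  haveI : IsProper B.hom := inferInstanceAs (IsProper (Limits.pullback.snd A.hom τ))
  haveI : Smooth B.hom := inferInstanceAs (Smooth (Limits.pullback.snd A.hom τ))
  haveI : GeometricallyConnected B.hom := inferInstanceAs (GeometricallyConnected (Limits.pullback.snd A.hom τ))
  haveI : GeometricallyReduced B.hom := Rigid.geometricallyReduced_of_smooth _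
  haveI : GeometricallyIntegral B.hom := W7Cube.geometricallyIntegral_grp
  have e := (lamCls_eq_one_iff (A := B) (PicGrp.cls _ (PicLoc.isInvertible_pullback (Limits.pullback.fst A.hom τ) hL))).2
    (AgVanish.invariant_of_algEquiv (A := B) _ h)
  rw [← pull_cls] at e
  refine (GraphLocus.bcDual_lamCls hA (Over.mk τ) hc).symm.trans ?_
  refine (congrArg (fun d : PicLoc.PicSet (B ⊗ B).left => AgPol.bcDual τ A At φ B d.1) e).trans ?_
  exact AbPrim.phi_one (AgBC.isDualAV_bcDual τ hA)

include hA in
/-- trivial homomorphism: algebraically trivial on every geometric fibre -/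
theorem algEquiv_of_lamHom_eq_one (hc : pull η[A].left (PicGrp.cls L hL) = 1)
    (h : GraphLocus.lamHom φ (PicGrp.cls L hL) = 1) :
    @Pic13.IsAlgEquivZero Ω _ (Red.bc τ A).left ⟨(Red.bc τ A).hom⟩
      ((Scheme.Modules.pullback (Limits.pullback.fst A.hom τ)).obj L) := by
  obtain ⟨ξ, -, hξ⟩ := AVPoincare.exists_isPoincareCl hA
  obtain ⟨P, -⟩ := AgSymm.exists_poincare hξ
  have e : GraphLocus.lamCls (PicGrp.cls L hL) = 1 := by
    rw [← GraphLocus.cls_lamHom hc P hA, h, Poincare.cls, MonObj.comp_one, P.val_one_right hA]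
  let B := Red.bc τ A
  letI : B.left.Over (Spec (CommRingCat.of Ω)) := ⟨B.hom⟩
  haveI : IsProper B.hom := inferInstanceAs (IsProper (Limits.pullback.snd A.hom τ))
  haveI : Smooth B.hom := inferInstanceAs (Smooth (Limits.pullback.snd A.hom τ))
  haveI : GeometricallyConnected B.hom := inferInstanceAs (GeometricallyConnected (Limits.pullback.snd A.hom τ))
  haveI : GeometricallyReduced B.hom := Rigid.geometricallyReduced_of_smooth _
  haveI : GeometricallyIntegral B.hom := W7Cube.geometricallyIntegral_grp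
  refine AgVanish.algEquiv_of_invariant (A := B) (PicLoc.isInvertible_pullback _ hL) ((lamCls_eq_one_iff (A := B) _).1 ?_)
  rw [← pull_cls]
  refine (GraphLocus.lamCls_bc (T := Over.mk τ) (PicGrp.cls L hL)).trans ?_
  rw [e, map_one]

end Groth.Agent.AgDeg
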