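import Groth.Agent.AgDeg.DualFT
import Groth.Agent.AgDeg.Field
import Groth.Agent.S14164
import Groth.Agent.LocFree.SemiLocal
import Groth.Agent.AgDual.FinitePts
import Groth.Agent.AgBC.Biduality
import Groth.Agent.AVDeg.FiniteKer
import Groth.Agent.TMul.RelAmpleOps
import Groth.Agent.S19771
import Groth.Agent.Nagata.Bundles
import Groth.Agent.AbsApprox.Immersion
import Groth.Agent.FpqcDescent.Affine

/-!
The degree of the homomorphism of a relatively ample module is the square of the rank of its direct image.
-/

set_option autoImplicit false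
set_option backward.isDefEq.respectTransparency false
set_option backward.isDefEq.respectTransparency.types false
set_option linter.style.haveILetI false
set_option linter.unusedSectionVars false
set_option maxHeartbeats 4000000
set_option synthInstance.maxHeartbeats 200000

universe u

open CategoryTheory CategoryTheory.Limits MonoidalCategory CartesianMonoidalCategory MonObj GrpObj AlgebraicGeometry
open Groth.Agent.W7Cube (pull pull_pull pull_cls)
open scoped TensorProduct

noncomputable section

namespace Groth.Agent.AgDeg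

attribute [local instance] W7Cube.law

variable {S : Scheme.{u}} [IsLocallyNoetherian S] {A At : Over S} [GrpObj A] [IsCommMonObj A] [GrpObj At]
  [IsCommMonObj At] [IsProper A.hom] [Smooth A.hom] [GeometricallyConnected A.hom] {φ : AgPol.DualMap A At}
  {L : A.left.Modules}

/-- the rank of a free neighbourhood is unique -/
theorem rank_unique {X : Scheme.{u}} {M : X.Modules} {r n : ℕ} (h : FlatMod.IsFinLocFreeOfRank r M)
    (hM : Coh.IsQCoh M) {U : X.Opens} {x : X} (hx : x ∈ U) (e : M.restrict U.ι ≅ FlatMod.freeMod (↑U) n) : n = r := by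
  obtain ⟨W, hxW, ⟨e'⟩⟩ := h x
  obtain ⟨b⟩ := LocFree.exists_basis_stalk e hM hx
  obtain ⟨b'⟩ := LocFree.exists_basis_stalk e' hM hxW
  have h1 := Module.finrank_eq_card_basis b
  rw [Module.finrank_eq_card_basis b'] at h1
  simpa using h1.symm

/-- the number of sections on a geometric fibre -/
theorem h_fibre (hL : PicF.IsInvertible L) (hample : RelAmple.IsRelAmple A.hom L) {r : ℕ}
    (hr : FlatMod.IsFinLocFreeOfRank r ((Coh.push A.hom).obj L)) (y : S) :
    CohIII.fiberRank A.hom L 0 y = r := by
  haveI := RPushQC.hasInjectiveResolutions A.left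
  have hcoh : Coh.IsCoh L := ⟨TMul.isQCoh_of_isInvertible hL, TMul.isFT_of_isInvertible hL⟩
  have hfl : FlatMod.IsFlatOver A.hom L := W7Hull.isFlatOver_of_isInvertible A.hom hL
  have hv : ∀ i : ℕ, 0 < i → IsZero ((Coh.Rpush A.hom i).obj L) := fun i hi =>
    (IsZero.iff_id_eq_zero _).2 (Scheme.Modules.hom_ext _ _ fun V => by
      ext s
      exact AgVanish.sections_zero_of_fiberH A.hom hcoh hfl i ⊤
        (fun y _ => S14164.fibre_vanish A L hL hample y i hi) V le_top s)
  obtain ⟨-, hfree, hloc⟩ := W7Cech.of_higher_vanish A.hom hcoh hfl hv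
  obtain ⟨U, hyU, ⟨e⟩⟩ := hloc y
  exact rank_unique (Nagata.isFinLocFreeOfRank_of_iso ((Coh.push A.hom).rightDerivedZeroIsoSelf.app L).symm hr)
    (CohFinite.isCoh_rpush A.hom L hcoh 0).1 hyU e

set_option maxHeartbeats 8000000 in
/-- the Mumford homomorphism on a geometric fibre is finite flat of rank `r ^ 2` -/
theorem fibre_finite_flat_rank (hA : AbDual.IsDualAV Scheme.fppfPrecoverage A At φ) (hL : PicF.IsInvertible L)
    (hample : RelAmple.IsRelAmple A.hom L) {r : ℕ} (hr : FlatMod.IsFinLocFreeOfRank r ((Coh.push A.hom).obj L))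
    {c : PicLoc.PicSet A.left} (hc : pull η[A].left c = 1)
    (e₀ : PicLoc.PicSet S) (hce : c = PicGrp.cls L hL * pull A.hom e₀)
    {Ω : Type u} [Field Ω] [IsAlgClosed Ω] (τ : Spec (CommRingCat.of Ω) ⟶ S) :
    IsFinite ((Over.pullback τ).map (GraphLocus.lamHom φ c)).left ∧
      Flat ((Over.pullback τ).map (GraphLocus.lamHom φ c)).left ∧
      ∀ y, ((Over.pullback τ).map (GraphLocus.lamHom φ c)).left.finrank y = r ^ 2 := by
  let B := Red.bc τ A
  haveI : IsProper B.hom := inferInstanceAs (IsProper (pullback.snd A.hom τ))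
  haveI : Smooth B.hom := inferInstanceAs (Smooth (pullback.snd A.hom τ))
  haveI : GeometricallyConnected B.hom := inferInstanceAs (GeometricallyConnected (pullback.snd A.hom τ))
  haveI : GeometricallyReduced B.hom := Rigid.geometricallyReduced_of_smooth _
  haveI : GeometricallyIntegral B.hom := W7Cube.geometricallyIntegral_grp
  letI : B.left.Over (Spec (CommRingCat.of Ω)) := ⟨B.hom⟩
  let g' : B.left ⟶ A.left := pullback.fst A.hom τ
  have ha : CohB1.IsAmple ((Scheme.Modules.pullback g').obj L) :=
    TMul.isRelAmple_iff_isAmple.1 (TMul.isRelAmple_baseChange τ hample)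
  have hcls : pull g' c = PicGrp.cls _ ha.1 := by
    haveI : Subsingleton (Spec (CommRingCat.of Ω)) := inferInstanceAs (Subsingleton (PrimeSpectrum Ω))
    haveI : Nonempty (Spec (CommRingCat.of Ω)) := inferInstanceAs (Nonempty (PrimeSpectrum Ω))
    rw [hce, map_mul, pull_cls, pull_pull, pullback.condition, ← pull_pull, AgSymm.picSet_eq_one (pull τ e₀), map_one,
      _root_.mul_one]
  refine finite_flat_rank (AgBC.isDualAV_bcDual τ hA) ha ?_ ?_
  · -- the sections
    let y : S := τ (IsLocalRing.closedPoint Ω)
    let K : Type u := S.residueField y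
    let a := Scheme.SpecToEquivOfField Ω S τ
    let φK : K →+* Ω := a.2.hom
    letI : Algebra K Ω := φK.toAlgebra
    have hτ : Spec.map (CommRingCat.ofHom (algebraMap K Ω)) ≫ S.fromSpecResidueField y = τ :=
      (Scheme.SpecToEquivOfField Ω S).symm_apply_apply τ
    let f' : A.hom.fiber y ⟶ Spec (CommRingCat.of K) := A.hom.fiberToSpecResidueField y
    letI : (A.hom.fiber y).Over (Spec (CommRingCat.of K)) := ⟨f'⟩
    have H0 : IsPullback (A.hom.fiberι y) f' A.hom (S.fromSpecResidueField y) := IsPullback.of_hasPullback _ _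
    haveI : IsProper f' := MorphismProperty.of_isPullback H0 ‹IsProper A.hom›
    haveI : CompactSpace (A.hom.fiber y) := QuasiCompact.compactSpace_of_compactSpace f'
    haveI : QuasiSeparatedSpace (A.hom.fiber y) := quasiSeparatedSpace_of_quasiSeparated f'
    let g : B.left ⟶ A.hom.fiber y := pullback.lift g' (pullback.snd A.hom τ ≫ Spec.map (CommRingCat.ofHom (algebraMap K Ω)))
      (by rw [Category.assoc, hτ]; exact pullback.condition)
    have sq : IsPullback g (B.left ↘ Spec (CommRingCat.of Ω)) ((A.hom.fiber y) ↘ Spec (CommRingCat.of K))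
        (Spec.map (CommRingCat.ofHom (algebraMap K Ω))) := by
      refine IsPullback.of_right ?_ (pullback.lift_snd _ _ _) H0
      rw [show g ≫ A.hom.fiberι y = g' from pullback.lift_fst _ _ _, hτ]
      exact IsPullback.of_hasPullback A.hom τ
    have hLy : Coh.IsQCoh (CohIII.fiberMod A.hom L y) :=
      TMul.isQCoh_of_isInvertible (PicLoc.isInvertible_pullback _ hL)
    obtain ⟨e⟩ := W7FlatBC.nonempty_hh_baseChange K Ω g sq (CohIII.fiberMod A.hom L y) hLy 0
    have hfin := h_fibre hL hample hr y
    let i : (Scheme.Modules.pullback g').obj L ≅ (Scheme.Modules.pullback g).obj (CohIII.fiberMod A.hom L y) :=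
      (Scheme.Modules.pullbackCongr (show g ≫ A.hom.fiberι y = g' from pullback.lift_fst _ _ _)).symm.app L ≪≫
        ((Scheme.Modules.pullbackComp g (A.hom.fiberι y)).app L).symm
    rw [CurveRR.h_eq_of_iso i]
    refine (e.finrank_eq.symm.trans ?_)
    rw [Module.finrank_baseChange]
    exact hfin
  · rw [← hcls]
    exact GraphLocus.bcDual_lamCls hA (Over.mk τ) hc

/-- base change of a morphism over the base is cartesian -/
theorem isPullback_bc {S' : Scheme.{u}} (τ : S' ⟶ S) (f : A ⟶ At) :
    IsPullback (pullback.fst A.hom τ) ((Over.pullback τ).map f).left f.left (pullback.fst At.hom τ) := by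
  refine IsPullback.of_bot ?_ ?_ (IsPullback.of_hasPullback At.hom τ)
  · rw [show ((Over.pullback τ).map f).left ≫ pullback.snd At.hom τ = pullback.snd A.hom τ from
      Over.w ((Over.pullback τ).map f), show f.left ≫ At.hom = A.hom from Over.w f]
    exact IsPullback.of_hasPullback A.hom τ
  · simp only [Over.pullback_map_left]; exact (pullback.lift_fst _ _ _).symm

set_option maxHeartbeats 8000000 in
/-- **the degree of the homomorphism of a relatively ample module** -/
theorem hasDegSq (hA : AbDual.IsDualAV Scheme.fppfPrecoverage A At φ) (hL : PicF.IsInvertible L)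
    (hample : RelAmple.IsRelAmple A.hom L) {lam : A ⟶ At} (hlam : AgPol.IsLambda A At φ L lam) {r : ℕ}
    (hr : FlatMod.IsFinLocFreeOfRank r ((Coh.push A.hom).obj L)) : AgPol.HasDegSq lam r := by
  obtain ⟨N, hN, hNs, hlam⟩ := hlam
  let c := PicGrp.cls L hL
  let e : PicLoc.PicSet S := pull η[A].left c
  let c' := c * pull A.hom e⁻¹
  have hc' : pull η[A].left c' = 1 := by
    rw [map_mul, map_inv, map_inv, pull_pull, show η[A].left ≫ A.hom = 𝟙 S from Over.w η[A]]
    exact mul_inv_eq_one.2 (PicGrp.pullHom_id_apply _ _).symm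
  have hT : ∀ (a : A ⊗ A ⟶ A), pull a.left (pull A.hom e) = pull (A ⊗ A).hom e := fun a => by
    rw [pull_pull, Over.w a]
  have hdiff : PicGrp.cls N hN = GraphLocus.lamCls c' * pull (snd A A).left (pull A.hom e)⁻¹ := by
    rw [(GraphLocus.isLambdaSheaf_iff _ _ _ L hL N hN).1 hNs]
    simp only [GraphLocus.lamCls, c', map_mul, map_inv, hT]
    apply Additive.ofMul.injective
    simp only [ofMul_mul, ofMul_inv, c]
    abel
  have hlc : lam = GraphLocus.lamHom φ c' := by
    rw [← hlam, GraphLocus.lamHom, ← AbPrim.phi_mul_base hA (GraphLocus.picZero_lamCls hc') (pull A.hom e)⁻¹, ← hdiff]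
    rfl
  subst hlc
  clear hlam
  have hfib := fun (Ω : Type u) (_ : Field Ω) (_ : IsAlgClosed Ω) (τ : Spec (CommRingCat.of Ω) ⟶ S) =>
    fibre_finite_flat_rank hA hL hample hr hc' e⁻¹ rfl τ
  obtain ⟨ξ, -, hξ⟩ := AVPoincare.exists_isPoincareCl hA
  obtain ⟨P, -⟩ := AgSymm.exists_poincare hξ
  haveI : IsMonHom (GraphLocus.lamHom φ c') := GraphLocus.isMonHom_lamHom hc' P hA
  let l := GraphLocus.lamHom φ c'
  haveI := locallyOfFiniteType_dual hA
  haveI := isSeparated_dual hA
  haveI : LocallyOfFinitePresentation At.hom := AbsApprox.lfp_of_lft_noetherian At.hom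
  have hfin : IsFinite l.left := AgDual.isFinite_of_kernel_points l fun Ω _ _ τ => by
    obtain ⟨hF, -, -⟩ := hfib Ω inferInstance inferInstance τ
    haveI := hF
    let F := (Over.pullback τ).map l
    haveI : IsProper (Red.bc τ A).hom := inferInstanceAs (IsProper (pullback.snd A.hom τ))
    haveI : LocallyOfFiniteType (Red.bc τ At).hom := inferInstanceAs (LocallyOfFiniteType (pullback.snd At.hom τ))
    haveI : IsMonHom F := inferInstance
    haveI : Smooth (Red.bc τ A).hom := inferInstanceAs (Smooth (pullback.snd A.hom τ))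
    haveI : GeometricallyConnected (Red.bc τ A).hom := inferInstanceAs (GeometricallyConnected (pullback.snd A.hom τ))
    haveI : GeometricallyReduced (Red.bc τ A).hom := Rigid.geometricallyReduced_of_smooth _
    haveI : GeometricallyIntegral (Red.bc τ A).hom := W7Cube.geometricallyIntegral_grp
    haveI : Finite (AVDeg.kerPts F) := (AVDeg.finite_kerPts_of_isFinite F).to_subtype
    rw [← Set.finite_coe_iff]
    refine Finite.of_injective (β := AVDeg.kerPts F) (fun a => ⟨S19771.pt a.1, ?_⟩) fun a b hab =>
      Subtype.ext (S19771.pt_injective (congrArg Subtype.val hab))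
    show S19771.pt a.1 ≫ F = 1
    refine AgBC.eq_of_fst τ ?_
    rw [Over.comp_left, Category.assoc, ← (isPullback_bc τ l).w, ← Category.assoc, S19771.pt_fst,
      ← Over.comp_left, show a.1 ≫ l = 1 from a.2, Hom.one_def, Hom.one_def, Over.comp_left, Over.comp_left,
      Over.toUnit_left, Over.toUnit_left]
    simp
  haveI := hfin
  obtain ⟨hlfp, hflat, -⟩ := FibCrit.flat_of_fibres (g := At.hom) (h := A.hom) (Over.w l) fun s => by
    let j : Spec (CommRingCat.of (AlgebraicClosure (S.residueField s))) ⟶ Spec (S.residueField s) :=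
      Spec.map (CommRingCat.ofHom (algebraMap (S.residueField s) (AlgebraicClosure (S.residueField s))))
    let τ := j ≫ S.fromSpecResidueField s
    obtain ⟨-, hFl, -⟩ := hfib (AlgebraicClosure (S.residueField s)) inferInstance inferInstance τ
    let F := ((Over.pullback τ).map l).left
    let ψ : pullback At.hom τ ⟶ At.hom.fiber s :=
      pullback.lift (pullback.fst At.hom τ) (pullback.snd At.hom τ ≫ j) (by
        rw [Category.assoc]; exact pullback.condition)
    have hψ : IsPullback ψ (pullback.snd At.hom τ) (pullback.snd At.hom (S.fromSpecResidueField s)) j :=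
      IsPullback.of_right (by
        rw [show ψ ≫ pullback.fst At.hom (S.fromSpecResidueField s) = pullback.fst At.hom τ from pullback.lift_fst _ _ _]
        exact IsPullback.of_hasPullback At.hom τ) (pullback.lift_snd _ _ _) (IsPullback.of_hasPullback _ _)
    have hj : (@Surjective ⊓ @Flat ⊓ @QuasiCompact : MorphismProperty Scheme.{u}) j :=
      ⟨⟨inferInstance, inferInstance⟩, inferInstance⟩
    have hψp : (@Surjective ⊓ @Flat ⊓ @QuasiCompact : MorphismProperty Scheme.{u}) ψ :=
      MorphismProperty.of_isPullback hψ.flip hj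
    let u : pullback A.hom τ ⟶ pullback l.left (At.hom.fiberι s) :=
      pullback.lift (pullback.fst A.hom τ) (F ≫ ψ) (by
        rw [Category.assoc, show ψ ≫ At.hom.fiberι s = pullback.fst At.hom τ from pullback.lift_fst _ _ _]
        exact (isPullback_bc τ l).w)
    have sqB : IsPullback u F (pullback.snd l.left (At.hom.fiberι s)) ψ := by
      refine IsPullback.of_right ?_ (pullback.lift_snd _ _ _) (IsPullback.of_hasPullback l.left (At.hom.fiberι s))
      rw [show ψ ≫ At.hom.fiberι s = pullback.fst At.hom τ from pullback.lift_fst _ _ _,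
        show u ≫ pullback.fst l.left (At.hom.fiberι s) = pullback.fst A.hom τ from pullback.lift_fst _ _ _]
      exact isPullback_bc τ l
    exact MorphismProperty.of_isPullback_of_descendsAlong (P := @Flat)
      (Q := (@Surjective ⊓ @Flat ⊓ @QuasiCompact : MorphismProperty Scheme.{u})) sqB.flip hψp hFl
  haveI := hflat
  refine ⟨hfin, hflat, hlfp, fun y => ?_⟩
  obtain ⟨Ω, _, _, a, ha⟩ := AgSymm.exists_geometric y
  let τ := a ≫ At.hom
  obtain ⟨-, -, hrk⟩ := hfib Ω inferInstance inferInstance τ
  let z : ↥(pullback At.hom τ) := (pullback.lift a (𝟙 _) (Category.id_comp τ).symm : Spec (CommRingCat.of Ω) ⟶ _)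
    (IsLocalRing.closedPoint Ω)
  have hz : pullback.fst At.hom τ z = y := by
    simp only [z, ← Scheme.Hom.comp_apply, pullback.lift_fst]
    exact ha _
  rw [← hz]
  exact (Scheme.Hom.finrank_of_isPullback _ _ _ _ (isPullback_bc τ l) z).symm.trans (hrk z)

end Groth.Agent.AgDeg
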