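import Groth.Agent.AgDeg.LamTriv
import Groth.Agent.AVPoincare.Exists
import Groth.Agent.LocNoethTop.Basic

/-!
Algebraic triviality on the fibres spreads from a dense set of parameters.
-/

set_option autoImplicit false
set_option backward.isDefEq.respectTransparency false
set_option backward.isDefEq.respectTransparency.types false
set_option linter.style.haveILetI false
set_option linter.unusedSectionVars false
set_option maxHeartbeats 2000000
set_option synthInstance.maxHeartbeats 200000

universe u

open CategoryTheory CategoryTheory.Limits MonoidalCategory CartesianMonoidalCategory MonObj GrpObj AlgebraicGeometry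
open TopologicalSpace PicF
open Groth.Agent.W7Cube (pull pull_pull pull_cls)

noncomputable section

namespace Groth.Agent.AgDeg

attribute [local instance] W7Cube.law

variable {S : Scheme.{u}} {A At : Over S} [GrpObj A] [IsCommMonObj A] [GrpObj At] [IsCommMonObj At]
  [IsProper A.hom] [Smooth A.hom] [GeometricallyConnected A.hom] {φ : AgPol.DualMap A At}
  (hA : AbDual.IsDualAV Scheme.fppfPrecoverage A At φ)

/-- the unit of a base change is the section -/
theorem one_left_comp {E T : Over S} (i : E ⟶ T) :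
    η[Red.bc E.hom A].left ≫ XTmap A.hom i = i.left ≫ secT A.hom η[A].left (Over.w η[A]) T := by
  refine pullback.hom_ext ?_ ?_
  · simp [XTmap, secT]
  · simp [XTmap, secT]

include hA in
/-- **a rigidified class in `Pic⁰` over a dense set of a noetherian base is in `Pic⁰`** -/
theorem picZero_of_dominant {T T' : Over S} [IsLocallyNoetherian T'.left] [NoetherianSpace T'.left] (v : T ⟶ T')
    (hv : DenseRange v.left) (c : PicLoc.PicSet (XT A.hom T'))
    (hr : pull (secT A.hom η[A].left (Over.w η[A]) T') c = 1)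
    (h : AbDual.IsPicZeroCl A.hom T (pull (XTmap A.hom v) c).1) : AbDual.IsPicZeroCl A.hom T' c.1 := by
  obtain ⟨L, hL, rfl⟩ := PicGrp.exists_eq_cls c
  refine ⟨L, rfl, hL, fun t' Ω _ _ σ hσ => ?_⟩
  let C : T'.left.Opens := ⟨connectedComponent t', LocNoethTop.isOpen_connectedComponent_of_noetherian t'⟩
  haveI : ConnectedSpace C.toScheme := isConnected_iff_connectedSpace.1 (isConnected_connectedComponent (x := t'))
  haveI : IsLocallyNoetherian C.toScheme := inferInstance
  let E : Over S := Over.mk (C.ι ≫ T'.hom)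
  let i : E ⟶ T' := Over.homMk C.ι rfl
  let X := Red.bc E.hom A
  haveI : IsProper X.hom := inferInstanceAs (IsProper (pullback.snd A.hom E.hom))
  haveI : Smooth X.hom := inferInstanceAs (Smooth (pullback.snd A.hom E.hom))
  haveI : GeometricallyConnected X.hom := inferInstanceAs (GeometricallyConnected (pullback.snd A.hom E.hom))
  haveI : IsLocallyNoetherian E.left := inferInstanceAs (IsLocallyNoetherian C.toScheme)
  haveI : ConnectedSpace E.left := inferInstanceAs (ConnectedSpace C.toScheme)
  let LE : X.left.Modules := (Scheme.Modules.pullback (XTmap A.hom i)).obj L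
  have hLE : PicF.IsInvertible LE := PicLoc.isInvertible_pullback _ hL
  have hcX : pull η[X].left (PicGrp.cls LE hLE) = 1 := by
    change pull η[X].left (PicGrp.cls ((Scheme.Modules.pullback (XTmap A.hom i)).obj L) _) = 1
    rw [← pull_cls _ L hL]
    refine (pull_pull _ _ _).trans ?_
    rw [one_left_comp i, ← pull_pull, hr, map_one]
  -- a source in the component
  obtain ⟨t, htC⟩ := hv.exists_mem_open C.2 ⟨t', mem_connectedComponent⟩
  obtain ⟨Ω₀, _, _, a, ha⟩ := AgSymm.exists_geometric t
  have hr₀ : Set.range (a ≫ v.left) ⊆ Set.range C.ι := by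
    rintro _ ⟨p, rfl⟩
    rw [Scheme.Opens.range_ι, Scheme.Hom.comp_apply]
    exact (congrArg (v.left ·) (ha p)) ▸ htC
  let σ₀ : Spec (CommRingCat.of Ω₀) ⟶ E.left := IsOpenImmersion.lift C.ι (a ≫ v.left) hr₀
  let Q : Over S := Over.mk (σ₀ ≫ E.hom)
  let q₁ : Q ⟶ E := Over.homMk σ₀ rfl
  have hσ₀ : σ₀ ≫ C.ι = a ≫ v.left := IsOpenImmersion.lift_fac _ _ _
  let q₂ : Q ⟶ T := Over.homMk a (by
    change a ≫ T.hom = σ₀ ≫ C.ι ≫ T'.hom
    rw [← Category.assoc σ₀, hσ₀, Category.assoc, Over.w v])
  have hq : XTmap A.hom q₁ ≫ XTmap A.hom i = XTmap A.hom q₂ ≫ XTmap A.hom v := by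
    rw [S12404.XTmap_comp, S12404.XTmap_comp]
    exact congrArg (XTmap A.hom) (Over.OverMorphism.ext hσ₀)
  have hQ : AbDual.IsPicZeroCl A.hom Q (pull (XTmap A.hom q₁) (PicGrp.cls LE hLE)).1 := by
    change AbDual.IsPicZeroCl A.hom Q
      (pull (XTmap A.hom q₁) (PicGrp.cls ((Scheme.Modules.pullback (XTmap A.hom i)).obj L) _)).1
    rw [← pull_cls _ L hL, pull_pull, hq, ← pull_pull]
    exact LBDesc.picZero_XTmap A.hom q₂ h
  have h₀ := AVPoincare.algTrivialAt_of_pull q₁ hLE hQ Ω₀ (𝟙 _) σ₀ (Category.id_comp _)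
  have hD := AgBC.isDualAV_bcDual E.hom hA
  have hl := map_lamHom_eq_one_of_algEquiv (A := X) hD σ₀ hLE hcX h₀
  have hone := lamHom_eq_one_of_geometric (A := X) hD hcX σ₀ hl
  have hE : AbDual.IsPicZeroCl A.hom E (pull (XTmap A.hom i) (PicGrp.cls L hL)).1 := by
    rw [pull_cls]
    exact ⟨LE, rfl, hLE, fun e Ω' _ _ σ' _ => algEquiv_of_lamHom_eq_one (A := X) hD σ' hLE hcX hone⟩
  have hr₁ : Set.range σ ⊆ Set.range C.ι := by
    rw [hσ, Set.singleton_subset_iff, Scheme.Opens.range_ι]
    exact mem_connectedComponent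
  exact AVPoincare.algTrivialAt_of_pull i hL hE Ω (IsOpenImmersion.lift C.ι σ hr₁) σ (IsOpenImmersion.lift_fac _ _ _)

end Groth.Agent.AgDeg
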